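import Groth.Agent.TorusStab.Generic
import Mathlib.AlgebraicGeometry.Morphisms.FiniteType

/-!
# Generic freeness of faithful torus actions
-/

set_option autoImplicit false
set_option backward.isDefEq.respectTransparency.types false

universe u

open CategoryTheory MonoidalCategory CartesianMonoidalCategory MonObj AlgebraicGeometry Limits
open scoped TensorProduct

noncomputable section

namespace Groth.Agent.TorusStab

variable {k : Type u} [Field k] {X : Over (Spec (CommRingCat.of k))}

/-- Morphisms agreeing on affine points are equal. -/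
theorem hom_ext_affine {S Y : Over (Spec (CommRingCat.of k))} {f g : S ⟶ Y} (P : S.left.Opens → Prop)
    (hP : ∀ p : S.left, ∃ V : S.left.Opens, IsAffineOpen V ∧ p ∈ V ∧ P V)
    (h : ∀ (C : Type u) [CommRing C] [Algebra k C] (y : sK (k := k) C ⟶ S),
      (∃ V : S.left.Opens, P V ∧ Set.range y.left ⊆ (V : Set S.left)) → y ≫ f = y ≫ g) : f = g := by
  choose V hV hpV hPV using hP
  let 𝒰 := S.left.openCoverOfIsOpenCover V (TopologicalSpace.Opens.ext (Set.eq_univ_of_forall fun p =>
    TopologicalSpace.Opens.mem_iSup.2 ⟨p, hpV p⟩))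
  refine Over.OverMorphism.ext (Scheme.Cover.hom_ext 𝒰 _ _ fun (p : S.left) => ?_)
  have : IsAffine (V p).toScheme := hV p
  let C := Γ((V p).toScheme, ⊤)
  let φ := Spec.preimage ((V p).toScheme.isoSpec.inv ≫ (V p).ι ≫ S.hom)
  letI : Algebra k C := φ.hom.toAlgebra
  let y : sK (k := k) C ⟶ S := Over.homMk ((V p).toScheme.isoSpec.inv ≫ (V p).ι) (by
    show ((V p).toScheme.isoSpec.inv ≫ (V p).ι) ≫ S.hom = Spec.map φ
    rw [Spec.map_preimage, Category.assoc])
  have h2 := congrArg Over.Hom.left (h C y ⟨V p, hPV p, by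
    rintro _ ⟨q, rfl⟩
    exact (Scheme.Opens.range_ι (V p)).subset ⟨(V p).toScheme.isoSpec.inv q, rfl⟩⟩)
  have h3 : ((V p).toScheme.isoSpec.inv ≫ (V p).ι) ≫ f.left = ((V p).toScheme.isoSpec.inv ≫ (V p).ι) ≫ g.left := h2
  rw [Category.assoc, Category.assoc] at h3
  exact (cancel_epi _).1 h3

theorem main {M : Type} [AddCommGroup M] (s : Finset M) (hs : AddSubgroup.closure (s : Set M) = ⊤)
    [IsIntegral X.left] [IsSeparated X.hom] (a : AlgGrp.Action (Red.DS (Spec (CommRingCat.of k)) M) X)
    (hfaith : ∀ (S : Over (Spec (CommRingCat.of k))) (g : S ⟶ Red.DS (Spec (CommRingCat.of k)) M),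
      (∀ (S' : Over (Spec (CommRingCat.of k))) (t : S' ⟶ S) (x : S' ⟶ X), lift (t ≫ g) x ≫ a.act = x) → g = 1) :
    ∃ U : X.left.Opens, Dense (U : Set X.left) ∧
      ∀ x : 𝟙_ (Over (Spec (CommRingCat.of k))) ⟶ X, x.left (IsLocalRing.closedPoint k) ∈ U →
        ∀ (S : Over (Spec (CommRingCat.of k))) (g : S ⟶ Red.DS (Spec (CommRingCat.of k)) M),
          lift g (toUnit S ≫ x) ≫ a.act = toUnit S ≫ x → g = 1 := by
  classical
  have hA : ∀ (W : X.left.Opens) (hW : IsAffineOpen W), (W : Set X.left).Nonempty →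
      ∃ (A : Type u) (_ : CommRing A) (_ : Algebra k A) (_ : IsDomain A) (w : sK (k := k) A ⟶ X),
        IsOpenImmersion w.left ∧ Set.range w.left = (W : Set X.left) := by
    intro W hW hne
    letI : Algebra k Γ(X.left, W) := (Spec.preimage (hW.fromSpec ≫ X.hom)).hom.toAlgebra
    have : Nonempty W := hne.to_subtype
    let wW : sK (k := k) Γ(X.left, W) ⟶ X := Over.homMk hW.fromSpec (by
      show hW.fromSpec ≫ X.hom = Spec.map _
      exact (Spec.map_preimage _).symm)
    have hwW : IsOpenImmersion wW.left := inferInstanceAs (IsOpenImmersion hW.fromSpec)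
    exact ⟨Γ(X.left, W), inferInstance, inferInstance, inferInstance, wW, hwW, hW.range_fromSpec⟩
  have hfac : ∀ {A : Type u} [CommRing A] [Algebra k A] (w : sK (k := k) A ⟶ X) [IsOpenImmersion w.left]
      {C : Type u} [CommRing C] [Algebra k C] (y : sK (k := k) C ⟶ X),
      Set.range y.left ⊆ Set.range w.left → ∃ α : A →ₐ[k] C, y = sp α ≫ w := by
    intro A _ _ w _ C _ _ y hy
    let φ := Spec.preimage (IsOpenImmersion.lift w.left y.left hy)
    have hφ : (CommRingCat.ofHom (algebraMap k A)) ≫ φ = CommRingCat.ofHom (algebraMap k C) := by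
      apply Spec.map_injective
      rw [Spec.map_comp, Spec.map_preimage]
      exact ((congrArg (IsOpenImmersion.lift w.left y.left hy ≫ ·) (Over.w w).symm).trans
        (IsOpenImmersion.lift_fac_assoc _ _ _ _)).trans (Over.w y)
    refine ⟨{ toRingHom := φ.hom, commutes' := fun r => congr($hφ r) }, Over.OverMorphism.ext ?_⟩
    show y.left = Spec.map φ ≫ w.left
    rw [Spec.map_preimage, IsOpenImmersion.lift_fac]
  obtain ⟨W, hW, hηW, -⟩ := exists_isAffineOpen_mem_and_subset (x := genericPoint X.left) (U := ⊤) trivial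
  obtain ⟨A, _, _, _, w, hwo, hwr⟩ := hA W hW ⟨_, hηW⟩
  obtain ⟨I, hI⟩ := exists_ideal a w
  obtain ⟨H, hH, hspread⟩ := exists_generic a w I hI
  -- the characters fixing everything are trivial
  have htriv : ∀ m : M, m ∈ H := by
    let Q := Multiplicative (M ⧸ H)
    let π : Multiplicative M →* Q := AddMonoidHom.toMultiplicative (QuotientAddGroup.mk' H)
    let h : sK (k := k) (MonoidAlgebra k Q) ⟶ Red.DS (Spec (CommRingCat.of k)) M :=
      tp ((MonoidAlgebra.of k Q).comp π)
    have hdense : ∀ (C : Type u) [CommRing C] [Algebra k C] (σ : MonoidAlgebra k Q →ₐ[k] C) (x : sK (k := k) C ⟶ X),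
        (∃ V : X.left.Opens, IsAffineOpen V ∧ Set.range x.left ⊆ (V : Set X.left)) →
        lift (sp σ ≫ h) x ≫ a.act = x := by
      intro C _ _ σ x ⟨V, hV, hxV⟩
      by_cases hVne : (V : Set X.left).Nonempty
      swap
      · rw [Set.not_nonempty_iff_eq_empty] at hVne
        have : IsEmpty (Spec (CommRingCat.of C)) := ⟨fun q => (hVne.subset (hxV ⟨q, rfl⟩)).elim⟩
        exact Over.OverMorphism.ext ((isInitialOfIsEmpty (X := Spec (CommRingCat.of C))).hom_ext _ _)
      obtain ⟨A', _, _, _, w', hwo', hwr'⟩ := hA V hV hVne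
      obtain ⟨α, rfl⟩ := hfac w' x (hwr' ▸ hxV)
      obtain ⟨I', hI'⟩ := exists_ideal a w'
      -- generic stabilisers of the two affine pieces agree on their intersection
      obtain ⟨H', hH', hspread'⟩ := exists_generic a w' I' hI'
      suffices hle : H' ≤ H by
        have hf := hH' C α (σ.comp (MonoidAlgebra.mapDomainAlgHom k k
          (AddMonoidHom.toMultiplicative (QuotientAddGroup.map H' H (AddMonoidHom.id M) hle))))
        have : sp σ ≫ h = tp (((σ.comp (MonoidAlgebra.mapDomainAlgHom k k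
          (AddMonoidHom.toMultiplicative (QuotientAddGroup.map H' H (AddMonoidHom.id M) hle)))).toRingHom.toMonoidHom.comp
            (MonoidAlgebra.of k (Multiplicative (M ⧸ H')))).comp (AddMonoidHom.toMultiplicative (QuotientAddGroup.mk' H'))) := by
          rw [tp_comp]
          congr 1
          refine MonoidHom.ext fun m => ?_
          simp [π]
          rfl
        rw [this]
        exact hf
      intro m hm
      by_contra hmH
      obtain ⟨f, hf, hfI⟩ := hspread' m hm
      -- a nonempty open in the intersection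
      let D := w'.left ''ᵁ (PrimeSpectrum.basicOpen f) ⊓ W
      have hD : (D : Set X.left).Nonempty := by
        refine nonempty_preirreducible_inter (w'.left ''ᵁ (PrimeSpectrum.basicOpen f)).isOpen W.isOpen ?_ ⟨_, hηW⟩
        obtain ⟨q, hq⟩ : ((PrimeSpectrum.basicOpen f) : Set (PrimeSpectrum A')).Nonempty :=
          ⟨⟨⊥, Ideal.isPrime_bot⟩, fun h => hf (Ideal.mem_bot.1 h)⟩
        exact ⟨w'.left q, q, hq, rfl⟩
      obtain ⟨E, hE, ⟨z, hzE⟩, hED⟩ : ∃ E : X.left.Opens, IsAffineOpen E ∧ (E : Set X.left).Nonempty ∧ E ≤ D := by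
        obtain ⟨z, hz⟩ := hD
        obtain ⟨E, hE, hzE, hED⟩ := exists_isAffineOpen_mem_and_subset (x := z) (U := D) hz
        exact ⟨E, hE, ⟨z, hzE⟩, hED⟩
      obtain ⟨L, _, _, _, wE, hwoE, hwrE⟩ := hA E hE ⟨z, hzE⟩
      obtain ⟨β, hβ⟩ := hfac w wE (by rw [hwrE, hwr]; exact fun q hq => (hED hq).2)
      obtain ⟨β', hβ'⟩ := hfac w' wE (by
        rw [hwrE]
        intro q hq
        obtain ⟨r, -, hr⟩ := (hED hq).1
        exact ⟨r, hr⟩)
      -- the point with values in `L[M/H]`
      let LQ := MonoidAlgebra L Q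
      let ιL : L →ₐ[k] LQ := MonoidAlgebra.singleOneAlgHom
      let σ₀ : MonoidAlgebra k Q →ₐ[k] LQ := MonoidAlgebra.lift k LQ Q (MonoidAlgebra.of L Q)
      have hfix := hH LQ (ιL.comp β) σ₀
      rw [← sp_comp, Category.assoc, ← hβ, hβ', ← Category.assoc, sp_comp] at hfix
      have h0 := (hI' (ιL.comp β') _).1 hfix _ hfI
      rw [map_sub, pairHom_single, pairHom_single, map_one, _root_.mul_one, sub_eq_zero] at h0
      have h1 : ((σ₀.toRingHom.toMonoidHom.comp (MonoidAlgebra.of k Q)).comp π) (Multiplicative.ofAdd m) =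
          MonoidAlgebra.single (π (Multiplicative.ofAdd m)) (1 : L) := by
        simp [σ₀]
        rfl
      erw [h1] at h0
      have hβf : β' f ≠ 0 := by
        intro h'
        let q : Spec (CommRingCat.of L) := (⟨⊥, Ideal.isPrime_bot⟩ : PrimeSpectrum L)
        have hq : wE.left q ∈ (w'.left ''ᵁ (PrimeSpectrum.basicOpen f) : Set X.left) :=
          (hED (hwrE.subset ⟨q, rfl⟩)).1
        rw [hβ'] at hq
        obtain ⟨r, hr, hrq⟩ := hq
        rw [w'.left.isOpenEmbedding.injective hrq] at hr
        exact hr (show β' f ∈ (⊥ : Ideal L) from h' ▸ Ideal.zero_mem _)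
      have h2 : MonoidAlgebra.single (π (Multiplicative.ofAdd m)) (β' f) = MonoidAlgebra.single (1 : Q) (β' f) := by
        simp [ιL, MonoidAlgebra.singleOneAlgHom] at h0
        rwa [MonoidAlgebra.single_mul_single, _root_.one_mul, _root_.mul_one] at h0
      exact hmH ((QuotientAddGroup.eq_zero_iff _).1
        ((MonoidAlgebra.single_left_inj hβf).1 h2 : π (Multiplicative.ofAdd m) = 1))
    have hh : h = 1 := hfaith _ h fun S' t x => by
      refine hom_ext_affine (fun V => ∃ V' : X.left.Opens, IsAffineOpen V' ∧ V ≤ x.left ⁻¹ᵁ V') (fun p => ?_)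
        fun C _ _ y ⟨V, ⟨V', hV', hle⟩, hy⟩ => ?_
      · obtain ⟨V', hV', hpV', -⟩ := exists_isAffineOpen_mem_and_subset (x := x.left p) (U := ⊤) trivial
        obtain ⟨V, hV, hpV, hle⟩ := exists_isAffineOpen_mem_and_subset (x := p) (U := x.left ⁻¹ᵁ V') hpV'
        exact ⟨V, hV, hpV, V', hV', hle⟩
      · obtain ⟨σ, hσ⟩ : ∃ σ : MonoidAlgebra k Q →ₐ[k] C, y ≫ t = sp σ := by
          let φ := Spec.preimage (y ≫ t).left
          have hφ : (CommRingCat.ofHom (algebraMap k (MonoidAlgebra k Q))) ≫ φ = CommRingCat.ofHom (algebraMap k C) := by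
            apply Spec.map_injective
            rw [Spec.map_comp, Spec.map_preimage]
            exact Over.w (y ≫ t)
          exact ⟨{ toRingHom := φ.hom, commutes' := fun r => congr($hφ r) },
            Over.OverMorphism.ext (Spec.map_preimage _).symm⟩
        rw [← Category.assoc, comp_lift, ← Category.assoc, hσ]
        refine hdense C σ (y ≫ x) ⟨V', hV', ?_⟩
        rintro _ ⟨q, rfl⟩
        exact hle (hy ⟨q, rfl⟩)
    intro m
    have hd := congrArg (RedPts.dFn · m) hh
    rw [show RedPts.dFn h m = _ from dFn_tp _ m] at hd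
    have hone : RedPts.dFn (1 : sK (k := k) (MonoidAlgebra k Q) ⟶ Red.DS (Spec (CommRingCat.of k)) M) m = 1 := by
      have := (RedPts.d_mul (1 : sK (k := k) (MonoidAlgebra k Q) ⟶ Red.DS (Spec (CommRingCat.of k)) M) 1 m).symm.trans
        (congrArg (RedPts.dFn · m) (_root_.one_mul (1 : sK (k := k) (MonoidAlgebra k Q) ⟶ Red.DS (Spec (CommRingCat.of k)) M)))
      exact (RedPts.d_isUnit _ m).mul_left_cancel (this.trans (_root_.mul_one _).symm)
    simp only [hone] at hd
    have h2 := congrArg (Scheme.ΓSpecIso (CommRingCat.of (MonoidAlgebra k Q))).hom hd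
    rw [Iso.inv_hom_id_apply, map_one] at h2
    exact (QuotientAddGroup.eq_zero_iff _).1
      ((MonoidAlgebra.single_left_inj one_ne_zero).1 (h2.trans MonoidAlgebra.one_def) : π (Multiplicative.ofAdd m) = 1)
  -- the open set
  choose f hf hfI using fun m : s => hspread m.1 (htriv m.1)
  refine ⟨w.left ''ᵁ (PrimeSpectrum.basicOpen (∏ m, f m)), ?_, fun x hx S g hg => ?_⟩
  · refine (w.left ''ᵁ (PrimeSpectrum.basicOpen (∏ m, f m))).isOpen.dense ?_
    have hne : (∏ m, f m) ≠ 0 := Finset.prod_ne_zero_iff.2 fun m _ => hf m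
    exact ⟨w.left (⟨⊥, Ideal.isPrime_bot⟩ : PrimeSpectrum A), _, fun h => hne (Ideal.mem_bot.1 h), rfl⟩
  · let e0 : sK (k := k) k ≅ 𝟙_ (Over (Spec (CommRingCat.of k))) := Over.isoMk (Iso.refl _) (by
      show 𝟙 _ ≫ 𝟙 _ = Spec.map (CommRingCat.ofHom (algebraMap k k))
      rw [Category.id_comp, Algebra.algebraMap_self, CommRingCat.ofHom_id, Spec.map_id])
    obtain ⟨r, hr, hrx⟩ := hx
    obtain ⟨α, hα⟩ := hfac w (e0.hom ≫ x) (by
      rintro _ ⟨q, rfl⟩
      haveI : Subsingleton ↥(sK (k := k) k).left := inferInstanceAs (Subsingleton (PrimeSpectrum k))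
      rw [Subsingleton.elim q ((IsLocalRing.closedPoint k : Spec (CommRingCat.of k)) : (sK (k := k) k).left)]
      exact ⟨r, hrx⟩)
    have hαf : ∀ m, α (f m) ≠ 0 := by
      intro m hm
      have h1 : w.left ((sp α).left (IsLocalRing.closedPoint k)) = w.left r := by
        refine Eq.trans ?_ hrx.symm
        rw [← Scheme.Hom.comp_apply, ← Over.comp_left, ← hα]
        rfl
      rw [← w.left.isOpenEmbedding.injective h1] at hr
      refine hr (show α (∏ i, f i) ∈ IsLocalRing.maximalIdeal k from ?_)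
      rw [map_prod, Finset.prod_eq_zero (Finset.mem_univ m) hm]
      exact Ideal.zero_mem _
    refine hom_ext_affine (fun _ => True) (fun p => ?_) fun C _ _ y _ => ?_
    · obtain ⟨V, hV, hpV, -⟩ := exists_isAffineOpen_mem_and_subset (x := p) (U := ⊤) trivial
      exact ⟨V, hV, hpV, trivial⟩
    · obtain ⟨χ, hχ⟩ := exists_tp (y ≫ g)
      have hy : y ≫ toUnit S ≫ x = sp ((Algebra.ofId k C).comp α) ≫ w := by
        rw [← sp_comp, Category.assoc, ← hα, ← Category.assoc, ← Category.assoc]
        congr 1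
        exact toUnit_unique _ _
      have hfix : Fix a (sp ((Algebra.ofId k C).comp α) ≫ w) χ := by
        show lift (tp χ) _ ≫ a.act = _
        rw [← hy, ← hχ, ← comp_lift, Category.assoc, hg]
      have hgen : ∀ m : s, χ (Multiplicative.ofAdd m.1) = 1 := fun m => by
        have h0 := (hI _ χ).1 hfix _ (hfI m)
        rw [map_sub, pairHom_single, pairHom_single, map_one, _root_.mul_one, sub_eq_zero] at h0
        refine ((isUnit_iff_ne_zero.2 (hαf m)).map (algebraMap k C)).mul_left_cancel ?_
        rw [_root_.mul_one]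
        exact h0
      let H₀ : AddSubgroup M :=
        { carrier := {m | χ (Multiplicative.ofAdd m) = 1}
          zero_mem' := map_one χ
          add_mem' := fun {m n} hm hn => by
            show χ (Multiplicative.ofAdd m * Multiplicative.ofAdd n) = 1
            rw [map_mul, hm, hn, _root_.one_mul]
          neg_mem' := fun {m} hm => by
            show χ (Multiplicative.ofAdd m)⁻¹ = 1
            have h := map_mul χ (Multiplicative.ofAdd m) (Multiplicative.ofAdd m)⁻¹
            rw [_root_.mul_inv_cancel, map_one, hm, _root_.one_mul] at h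
            exact h.symm }
      have hall : ∀ m, m ∈ H₀ := fun m => (show AddSubgroup.closure (s : Set M) ≤ H₀ from
        (AddSubgroup.closure_le H₀).2 fun m hm => hgen ⟨m, hm⟩) (hs ▸ AddSubgroup.mem_top m)
      rw [MonObj.comp_one, hχ]
      refine RedPts.d_ext fun m => ?_
      rw [dFn_tp, show χ (Multiplicative.ofAdd m) = 1 from hall m, map_one]
      have := (RedPts.d_mul (1 : sK (k := k) C ⟶ Red.DS (Spec (CommRingCat.of k)) M) 1 m).symm.trans
        (congrArg (RedPts.dFn · m) (_root_.one_mul (1 : sK (k := k) C ⟶ Red.DS (Spec (CommRingCat.of k)) M)))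
      exact ((RedPts.d_isUnit _ m).mul_left_cancel (this.trans (_root_.mul_one _).symm)).symm

end Groth.Agent.TorusStab
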