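import Groth.Agent.RedPts.Basic
import Groth.Prelude.Def_AlgGrp
import Mathlib.AlgebraicGeometry.Morphisms.Separated
import Mathlib.AlgebraicGeometry.Morphisms.ClosedImmersion
import Mathlib.LinearAlgebra.Basis.VectorSpace
import Mathlib.RingTheory.TensorProduct.Basic
import Mathlib.RingTheory.Localization.FractionRing
import Mathlib.AlgebraicGeometry.Properties

/-!
# Generic stabilisers of torus actions
-/

set_option autoImplicit false
set_option backward.isDefEq.respectTransparency.types false

universe u

open CategoryTheory MonoidalCategory CartesianMonoidalCategory MonObj AlgebraicGeometry Limits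
open scoped TensorProduct

noncomputable section

namespace Groth.Agent.TorusStab

/-- Distinct elements fixed by a diagonal map are linearly independent. -/
theorem linearIndepOn_groupLike {K B : Type u} [Field K] [CommRing B] [Algebra K B] (Δ : B →ₗ[K] B ⊗[K] B) (S : Set B)
    (hΔ : ∀ b ∈ S, Δ b = b ⊗ₜ b) (h0 : (0 : B) ∉ S) : LinearIndepOn K id S := by
  classical
  rw [linearIndepOn_iff_linearIndepOn_finset]
  intro T hT
  induction T using Finset.induction_on with
  | empty => simp
  | insert b T hbT ih =>
    rw [Finset.coe_insert, Set.insert_subset_iff] at hT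
    have hi := ih hT.2
    rw [Finset.coe_insert, linearIndepOn_id_insert (Finset.mem_coe.not.2 hbT)]
    refine ⟨hi, fun hb => ?_⟩
    obtain ⟨c, hc⟩ := (Submodule.mem_span_finset').1 hb
    let bas := Module.Basis.extend hi
    have hdual : ∀ t : T, ∃ f : B →ₗ[K] K, ∀ t' : T, f t' = if t' = t then 1 else 0 := fun t => by
      refine ⟨bas.coord ⟨t.1, hi.subset_extend _ t.2⟩, fun t' => ?_⟩
      have h : bas ⟨t'.1, hi.subset_extend _ t'.2⟩ = (t' : B) := Module.Basis.extend_apply_self hi _
      rw [← h, Module.Basis.coord_apply, bas.repr_self]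
      by_cases hne : t' = t
      · subst hne
        rw [Finsupp.single_eq_same, if_pos rfl]
      · rw [Finsupp.single_eq_of_ne (fun h' => hne (Subtype.ext (congrArg (fun z => (z.1 : B)) h').symm)), if_neg hne]
    choose f hf using hdual
    have key : ∀ s t : T, (if s = t then c t else 0) = c s * c t := fun s t => by
      have h1 : Δ b = b ⊗ₜ[K] b := hΔ b hT.1
      have h2 : Δ b = ∑ i : T, c i • ((i : B) ⊗ₜ[K] (i : B)) := by
        rw [← hc, map_sum]
        exact Finset.sum_congr rfl fun i _ => by rw [map_smul, hΔ _ (hT.2 i.2)]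
      have hfb : ∀ r : T, f r b = c r := fun r => by rw [← hc, map_sum]; simp [hf]
      have h3 := congrArg (fun z => TensorProduct.lid K K (TensorProduct.map (f s) (f t) z)) (h2.symm.trans h1)
      simp only [map_sum, map_smul, TensorProduct.map_tmul, TensorProduct.lid_tmul, hf, hfb, smul_eq_mul] at h3
      rw [← h3]
      rcases eq_or_ne s t with rfl | hst
      · simp
      · simp [mul_ite, hst, Ne.symm hst]
    by_cases hall : ∀ t : T, c t = 0
    · exact h0 (by
        have : b = 0 := by rw [← hc]; simp [hall]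
        exact this ▸ hT.1)
    · push Not at hall
      obtain ⟨s, hs⟩ := hall
      have hs1 : c s = 1 := by
        have := key s s
        simp only [if_true] at this
        exact (mul_eq_left₀ hs).1 this.symm
      have hrest : ∀ t : T, t ≠ s → c t = 0 := fun t ht => by
        have := key s t
        rw [if_neg (Ne.symm ht), hs1, _root_.one_mul] at this
        exact this.symm
      have : b = s := by
        rw [← hc, Finset.sum_eq_single s (fun t _ ht => by simp [hrest t ht]) (by simp), hs1, one_smul]
      exact hbT (this ▸ s.2)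

variable {k : Type u} [Field k] {M : Type} [AddCommGroup M]
variable {X : Over (Spec (CommRingCat.of k))}

/-- An algebra over the field. -/
abbrev sK (B : Type u) [CommRing B] [Algebra k B] : Over (Spec (CommRingCat.of k)) :=
  Over.mk (Spec.map (CommRingCat.ofHom (algebraMap k B)))

/-- The morphism of an algebra map. -/
def sp {B B' : Type u} [CommRing B] [Algebra k B] [CommRing B'] [Algebra k B'] (φ : B →ₐ[k] B') : sK (k := k) B' ⟶ sK B :=
  Over.homMk (Spec.map (CommRingCat.ofHom φ.toRingHom)) (by
    show Spec.map (CommRingCat.ofHom φ.toRingHom) ≫ Spec.map _ = Spec.map _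
    rw [← Spec.map_comp]
    exact congrArg Spec.map (CommRingCat.hom_ext φ.comp_algebraMap))

lemma sp_comp {B B' B'' : Type u} [CommRing B] [Algebra k B] [CommRing B'] [Algebra k B'] [CommRing B''] [Algebra k B'']
    (φ : B →ₐ[k] B') (ψ : B' →ₐ[k] B'') : sp ψ ≫ sp φ = sp (ψ.comp φ) :=
  Over.OverMorphism.ext (by show Spec.map _ ≫ Spec.map _ = Spec.map _; rw [← Spec.map_comp]; rfl)

/-- The point of a character. -/
def tp {B : Type u} [CommRing B] [Algebra k B] (χ : Multiplicative M →* B) : sK (k := k) B ⟶ (Red.DS (Spec (CommRingCat.of k)) M) :=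
  (RedPts.d_surjective (S := Spec (CommRingCat.of k)) (X := sK B)
    ((Scheme.ΓSpecIso (CommRingCat.of B)).inv.hom.toMonoidHom.comp χ)).choose

lemma dFn_tp {B : Type u} [CommRing B] [Algebra k B] (χ : Multiplicative M →* B) (m : M) :
    RedPts.dFn (tp (k := k) χ) m = (Scheme.ΓSpecIso (CommRingCat.of B)).inv (χ (Multiplicative.ofAdd m)) :=
  (RedPts.d_surjective (S := Spec (CommRingCat.of k)) (X := sK B) _).choose_spec m

lemma exists_tp {B : Type u} [CommRing B] [Algebra k B] (g : sK (k := k) B ⟶ (Red.DS (Spec (CommRingCat.of k)) M)) :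
    ∃ χ : Multiplicative M →* B, g = tp χ := by
  refine ⟨(Scheme.ΓSpecIso (CommRingCat.of B)).hom.hom.toMonoidHom.comp
    { toFun := fun m => RedPts.dFn g m.toAdd
      map_one' := RedPts.d_zero g
      map_mul' := fun a b => RedPts.d_add g _ _ }, RedPts.d_ext fun m => ?_⟩
  rw [dFn_tp]
  exact ((Scheme.ΓSpecIso (CommRingCat.of B)).hom_inv_id_apply (RedPts.dFn g m)).symm

lemma tp_mul {B : Type u} [CommRing B] [Algebra k B] (χ ψ : Multiplicative M →* B) :
    tp (k := k) (χ * ψ) = tp χ * tp ψ := RedPts.d_ext fun m => by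
  rw [RedPts.d_mul, dFn_tp, dFn_tp, dFn_tp, MonoidHom.mul_apply, map_mul]

lemma tp_comp {B B' : Type u} [CommRing B] [Algebra k B] [CommRing B'] [Algebra k B'] (φ : B →ₐ[k] B')
    (χ : Multiplicative M →* B) : sp φ ≫ tp χ = tp (φ.toRingHom.toMonoidHom.comp χ) := RedPts.d_ext fun m => by
  rw [RedPts.d_comp, dFn_tp, dFn_tp]
  exact (congr($(Scheme.ΓSpecIso_inv_naturality (CommRingCat.ofHom φ.toRingHom)) _)).symm

variable (a : AlgGrp.Action (Red.DS (Spec (CommRingCat.of k)) M) X)

/-- A pair fixed by the action. -/
def Fix {B : Type u} [CommRing B] [Algebra k B] (x : sK (k := k) B ⟶ X) (χ : Multiplicative M →* B) : Prop :=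
  lift (tp χ) x ≫ a.act = x

lemma Fix.comp {B B' : Type u} [CommRing B] [Algebra k B] [CommRing B'] [Algebra k B'] (φ : B →ₐ[k] B')
    {x : sK (k := k) B ⟶ X} {χ : Multiplicative M →* B} (h : Fix a x χ) :
    Fix a (sp φ ≫ x) (φ.toRingHom.toMonoidHom.comp χ) := by
  show lift _ _ ≫ a.act = _
  rw [← tp_comp, ← comp_lift, Category.assoc, h]

lemma act_mul {S : Over (Spec (CommRingCat.of k))} (g h : S ⟶ (Red.DS (Spec (CommRingCat.of k)) M)) (x : S ⟶ X) :
    lift (g * h) x ≫ a.act = lift g (lift h x ≫ a.act) ≫ a.act := by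
  have h1 : lift (g * h) x = lift (lift g h) x ≫ (μ[(Red.DS (Spec (CommRingCat.of k)) M)] ▷ X) := by
    rw [lift_whiskerRight, Hom.mul_def]
  rw [h1, Category.assoc, a.mul_act, lift_lift_associator_hom_assoc, lift_whiskerLeft_assoc]

lemma Fix.mul {B : Type u} [CommRing B] [Algebra k B] {x : sK (k := k) B ⟶ X} {χ ψ : Multiplicative M →* B}
    (h : Fix a x χ) (h' : Fix a x ψ) : Fix a x (χ * ψ) := by
  show lift _ _ ≫ a.act = _
  rw [tp_mul, act_mul, h', h]

section Closed

variable {A : Type u} [CommRing A] [Algebra k A] (w : sK (k := k) A ⟶ X)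

/-- The algebra map of a pair. -/
def pairHom {B : Type u} [CommRing B] [Algebra k B] (α : A →ₐ[k] B) (χ : Multiplicative M →* B) :
    MonoidAlgebra A (Multiplicative M) →ₐ[k] B :=
  MonoidAlgebra.liftNCAlgHom α χ fun _ _ => Commute.all _ _

lemma pairHom_single {B : Type u} [CommRing B] [Algebra k B] (α : A →ₐ[k] B) (χ : Multiplicative M →* B)
    (m : Multiplicative M) (c : A) : pairHom α χ (MonoidAlgebra.single m c) = α c * χ m := by
  show MonoidAlgebra.liftNC _ _ _ = _
  rw [MonoidAlgebra.liftNC_single]
  rfl

/-- The stabiliser is closed. -/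
theorem exists_ideal [IsSeparated X.hom] : ∃ I : Ideal (MonoidAlgebra A (Multiplicative M)),
    ∀ {B : Type u} [CommRing B] [Algebra k B] (α : A →ₐ[k] B) (χ : Multiplicative M →* B),
      Fix a (sp α ≫ w) χ ↔ ∀ z ∈ I, pairHom α χ z = 0 := by
  let B₀ := MonoidAlgebra A (Multiplicative M)
  let ι₀ : A →ₐ[k] B₀ := MonoidAlgebra.singleOneAlgHom
  let χ₀ : Multiplicative M →* B₀ := MonoidAlgebra.of A (Multiplicative M)
  let x₀ : sK (k := k) B₀ ⟶ X := sp ι₀ ≫ w
  let y₀ : sK (k := k) B₀ ⟶ X := lift (tp χ₀) x₀ ≫ a.act
  let P : Spec (CommRingCat.of B₀) ⟶ pullback X.hom X.hom :=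
    pullback.lift y₀.left x₀.left ((Over.w y₀).trans (Over.w x₀).symm)
  haveI : IsClosedImmersion (pullback.diagonal X.hom) := IsSeparated.isClosedImmersion_diagonal
  haveI : IsClosedImmersion (pullback.fst P (pullback.diagonal X.hom)) :=
    MorphismProperty.pullback_fst (P := @IsClosedImmersion) _ _ inferInstance
  obtain ⟨I, eI, heI⟩ := (IsClosedImmersion.Spec_iff (R := CommRingCat.of B₀)).1 ‹IsClosedImmersion (pullback.fst P (pullback.diagonal X.hom))›
  refine ⟨I, fun {B} _ _ α χ => ?_⟩
  have hι : (pairHom α χ).comp ι₀ = α := AlgHom.ext fun c => by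
    show pairHom α χ (MonoidAlgebra.single 1 c) = α c
    rw [pairHom_single, map_one, _root_.mul_one]
  have hχ : (pairHom α χ).toRingHom.toMonoidHom.comp χ₀ = χ := MonoidHom.ext fun m => by
    show pairHom α χ (MonoidAlgebra.single m 1) = χ m
    rw [pairHom_single, map_one, _root_.one_mul]
  have hx : sp (pairHom α χ) ≫ x₀ = sp α ≫ w := by rw [← Category.assoc, sp_comp, hι]
  have hy : sp (pairHom α χ) ≫ y₀ = lift (tp χ) (sp α ≫ w) ≫ a.act := by
    rw [← Category.assoc, comp_lift, tp_comp, hx, hχ]
  have hfix : Fix a (sp α ≫ w) χ ↔ (sp (pairHom α χ) ≫ y₀).left = (sp (pairHom α χ) ≫ x₀).left := by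
    rw [hx, hy]
    exact ⟨fun h => congrArg Over.Hom.left h, fun h => Over.OverMorphism.ext h⟩
  rw [hfix]
  constructor
  · intro h z hz
    have h1 : Spec.map (CommRingCat.ofHom (pairHom α χ).toRingHom) ≫ P =
        (sp (pairHom α χ) ≫ x₀).left ≫ pullback.diagonal X.hom := by
      apply pullback.hom_ext
      · rw [Category.assoc, pullback.lift_fst, Category.assoc, pullback.diagonal_fst, Category.comp_id]
        exact h
      · rw [Category.assoc, pullback.lift_snd, Category.assoc, pullback.diagonal_snd, Category.comp_id]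
        rfl
    let l := pullback.lift _ _ h1 ≫ eI.hom
    have h2 : l ≫ Spec.map (CommRingCat.ofHom (Ideal.Quotient.mk I)) = Spec.map (CommRingCat.ofHom (pairHom α χ).toRingHom) := by
      rw [Category.assoc, ← heI, pullback.lift_fst]
    rw [← Spec.map_preimage l, ← Spec.map_comp] at h2
    have h3 := congr($(congrArg CommRingCat.Hom.hom (Spec.map_injective h2)) z)
    simp only [CommRingCat.hom_comp, CommRingCat.hom_ofHom, RingHom.comp_apply,
      Ideal.Quotient.eq_zero_iff_mem.2 hz, map_zero] at h3
    exact h3.symm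
  · intro h
    let l : Spec (CommRingCat.of B) ⟶ pullback P (pullback.diagonal X.hom) :=
      Spec.map (CommRingCat.ofHom (Ideal.Quotient.lift I (pairHom α χ).toRingHom h)) ≫ eI.inv
    have h1 : l ≫ pullback.fst P (pullback.diagonal X.hom) = Spec.map (CommRingCat.ofHom (pairHom α χ).toRingHom) := by
      rw [heI, Category.assoc, Iso.inv_hom_id_assoc, ← Spec.map_comp]
      rfl
    have h2 := congrArg (fun q => l ≫ q) (pullback.condition (f := P) (g := pullback.diagonal X.hom))
    simp only [← Category.assoc, h1] at h2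
    show Spec.map _ ≫ y₀.left = Spec.map _ ≫ x₀.left
    calc Spec.map (CommRingCat.ofHom (pairHom α χ).toRingHom) ≫ y₀.left
        = (Spec.map (CommRingCat.ofHom (pairHom α χ).toRingHom) ≫ P) ≫ pullback.fst X.hom X.hom := by
          rw [Category.assoc, pullback.lift_fst]
      _ = (Spec.map (CommRingCat.ofHom (pairHom α χ).toRingHom) ≫ P) ≫ pullback.snd X.hom X.hom := by
          rw [h2, Category.assoc _ (pullback.diagonal X.hom), Category.assoc _ (pullback.diagonal X.hom),
            pullback.diagonal_fst, pullback.diagonal_snd]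
      _ = Spec.map (CommRingCat.ofHom (pairHom α χ).toRingHom) ≫ x₀.left := by
          rw [Category.assoc, pullback.lift_snd]

/-- A group of characters fixing the whole open, trivial only if the generic stabiliser is trivial. -/
theorem exists_generic [IsSeparated X.hom] [IsDomain A] (I : Ideal (MonoidAlgebra A (Multiplicative M)))
    (hI : ∀ {B : Type u} [CommRing B] [Algebra k B] (α : A →ₐ[k] B) (χ : Multiplicative M →* B),
      Fix a (sp α ≫ w) χ ↔ ∀ z ∈ I, pairHom α χ z = 0) :
    ∃ H : AddSubgroup M,
      (∀ (C : Type u) [CommRing C] [Algebra k C] (α : A →ₐ[k] C)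
        (σ : MonoidAlgebra k (Multiplicative (M ⧸ H)) →ₐ[k] C),
        Fix a (sp α ≫ w) ((σ.toRingHom.toMonoidHom.comp (MonoidAlgebra.of k (Multiplicative (M ⧸ H)))).comp
          (AddMonoidHom.toMultiplicative (QuotientAddGroup.mk' H)))) ∧
      ∀ m ∈ H, ∃ f : A, f ≠ 0 ∧ MonoidAlgebra.single (Multiplicative.ofAdd m) f - MonoidAlgebra.single 1 f ∈ I := by
  classical
  let K := FractionRing A
  let j : MonoidAlgebra A (Multiplicative M) →+* MonoidAlgebra K (Multiplicative M) :=
    MonoidAlgebra.mapRingHom (Multiplicative M) (algebraMap A K)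
  have hj : Function.Injective j := fun z z' h => MonoidAlgebra.ext (Finsupp.ext fun m =>
    IsFractionRing.injective A K (by
      have := congr(($h).coeff m)
      simpa [j] using this))
  let IK := I.map j
  obtain ⟨B, _, _, q₀, hqs, hq⟩ : ∃ (B : Type u) (_ : CommRing B) (_ : Algebra K B)
      (q : MonoidAlgebra K (Multiplicative M) →ₐ[K] B), Function.Surjective q ∧ ∀ z, q z = 0 ↔ z ∈ IK :=
    ⟨MonoidAlgebra K (Multiplicative M) ⧸ IK, inferInstance, inferInstance, Ideal.Quotient.mkₐ K IK,
      Ideal.Quotient.mk_surjective, fun z => Ideal.Quotient.eq_zero_iff_mem⟩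
  letI : Algebra k B := ((algebraMap K B).comp (algebraMap k K)).toAlgebra
  haveI : IsScalarTower k K B := IsScalarTower.of_algebraMap_eq fun _ => rfl
  let χB : Multiplicative M →* B := q₀.toRingHom.toMonoidHom.comp (MonoidAlgebra.of K (Multiplicative M))
  -- pairs over the generic point
  have hgen : ∀ (C : Type u) [CommRing C] [Algebra k C] [Algebra K C] [IsScalarTower k K C] (χ : Multiplicative M →* C),
      Fix a (sp (((Algebra.ofId K C).restrictScalars k).comp (IsScalarTower.toAlgHom k A K)) ≫ w) χ ↔
        ∀ z ∈ IK, MonoidAlgebra.lift K C (Multiplicative M) χ z = 0 := by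
    intro C _ _ _ _ χ
    have hfac : ∀ z, pairHom (((Algebra.ofId K C).restrictScalars k).comp (IsScalarTower.toAlgHom k A K)) χ z =
        MonoidAlgebra.lift K C (Multiplicative M) χ (j z) := by
      intro z
      induction z using MonoidAlgebra.induction_linear with
      | zero => simp
      | add z z' hz hz' => simp only [map_add, hz, hz']
      | single m c =>
        rw [pairHom_single]
        show _ = MonoidAlgebra.lift K C (Multiplicative M) χ (MonoidAlgebra.mapRingHom _ _ _)
        rw [MonoidAlgebra.mapRingHom_single, MonoidAlgebra.lift_single, Algebra.smul_def]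
        rfl
    rw [hI]
    refine ⟨fun h z hz => ?_, fun h z hz => (hfac z).trans (h _ (Ideal.mem_map_of_mem j hz))⟩
    have hle : IK ≤ RingHom.ker (MonoidAlgebra.lift K C (Multiplicative M) χ).toRingHom :=
      Ideal.map_le_iff_le_comap.2 fun y hy => (hfac y).symm.trans (h y hy)
    exact hle hz
  have hχB : ∀ z, MonoidAlgebra.lift K B (Multiplicative M) χB z = q₀ z := by
    have : MonoidAlgebra.lift K B (Multiplicative M) χB = q₀ := by
      apply (MonoidAlgebra.lift K B (Multiplicative M)).symm.injective
      rw [Equiv.symm_apply_apply]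
      exact MonoidHom.ext fun m => rfl
    exact fun z => AlgHom.congr_fun this z
  have hfixB := (hgen B χB).2 fun z hz => by rw [hχB, hq]; exact hz
  -- the diagonal map of the stabiliser
  let i₁ : B →ₐ[K] B ⊗[K] B := Algebra.TensorProduct.includeLeft
  let i₂ : B →ₐ[K] B ⊗[K] B := Algebra.TensorProduct.includeRight
  have hprod : ∀ z ∈ IK, MonoidAlgebra.lift K (B ⊗[K] B) (Multiplicative M)
      (i₁.toRingHom.toMonoidHom.comp χB * i₂.toRingHom.toMonoidHom.comp χB) z = 0 := by
    refine (hgen (B ⊗[K] B) _).1 (Fix.mul a ?_ ?_)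
    · refine (hgen (B ⊗[K] B) _).2 fun z hz => ?_
      have : MonoidAlgebra.lift K (B ⊗[K] B) (Multiplicative M) (i₁.toRingHom.toMonoidHom.comp χB) =
          i₁.comp (MonoidAlgebra.lift K B (Multiplicative M) χB) := by
        apply (MonoidAlgebra.lift K (B ⊗[K] B) (Multiplicative M)).symm.injective
        rw [Equiv.symm_apply_apply]
        exact MonoidHom.ext fun m => by simp [χB]
      rw [this, AlgHom.comp_apply, hχB, (hq z).2 hz, map_zero]
    · refine (hgen (B ⊗[K] B) _).2 fun z hz => ?_
      have : MonoidAlgebra.lift K (B ⊗[K] B) (Multiplicative M) (i₂.toRingHom.toMonoidHom.comp χB) =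
          i₂.comp (MonoidAlgebra.lift K B (Multiplicative M) χB) := by
        apply (MonoidAlgebra.lift K (B ⊗[K] B) (Multiplicative M)).symm.injective
        rw [Equiv.symm_apply_apply]
        exact MonoidHom.ext fun m => by simp [χB]
      rw [this, AlgHom.comp_apply, hχB, (hq z).2 hz, map_zero]
  obtain ⟨sec, hsec⟩ := LinearMap.exists_rightInverse_of_surjective q₀.toLinearMap (LinearMap.range_eq_top.2 hqs)
  let Λ := MonoidAlgebra.lift K (B ⊗[K] B) (Multiplicative M) (i₁.toRingHom.toMonoidHom.comp χB * i₂.toRingHom.toMonoidHom.comp χB)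
  let Δ : B →ₗ[K] B ⊗[K] B := Λ.toLinearMap ∘ₗ sec
  have hΔ : ∀ m, Δ (χB m) = χB m ⊗ₜ[K] χB m := fun m => by
    have h1 : sec (χB m) - MonoidAlgebra.of K (Multiplicative M) m ∈ IK := by
      rw [← hq, map_sub, sub_eq_zero]
      exact LinearMap.congr_fun hsec (χB m)
    have h2 := hprod _ h1
    rw [map_sub, sub_eq_zero] at h2
    show Λ (sec (χB m)) = _
    rw [h2, MonoidAlgebra.lift_of, MonoidHom.mul_apply]
    show χB m ⊗ₜ[K] (1 : B) * (1 : B) ⊗ₜ[K] χB m = _
    rw [Algebra.TensorProduct.tmul_mul_tmul, _root_.mul_one, _root_.one_mul]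
  let H : AddSubgroup M :=
    { carrier := {m | χB (Multiplicative.ofAdd m) = 1}
      zero_mem' := map_one χB
      add_mem' := fun {m n} hm hn => by
        show χB (Multiplicative.ofAdd m * Multiplicative.ofAdd n) = 1
        rw [map_mul, hm, hn, _root_.one_mul]
      neg_mem' := fun {m} hm => by
        show χB (Multiplicative.ofAdd m)⁻¹ = 1
        have h := map_mul χB (Multiplicative.ofAdd m) (Multiplicative.ofAdd m)⁻¹
        rw [_root_.mul_inv_cancel, map_one, hm, _root_.one_mul] at h
        exact h.symm }
  refine ⟨H, fun C _ _ α σ => ?_, fun m hm => ?_⟩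
  · -- the characters of the quotient
    let Q := Multiplicative (M ⧸ H)
    let π : Multiplicative M →* Q := AddMonoidHom.toMultiplicative (QuotientAddGroup.mk' H)
    have hπ : Function.Surjective π := QuotientAddGroup.mk'_surjective H
    have hker : π.ker ≤ χB.toHomUnits.ker := fun m hm => by
      have : m.toAdd ∈ H := (QuotientAddGroup.eq_zero_iff _).1 hm
      exact Units.ext this
    let eQ : Q →* Bˣ := π.liftOfSurjective hπ ⟨χB.toHomUnits, hker⟩
    have heQ : ∀ m, eQ (π m) = χB.toHomUnits m := fun m => MonoidHom.liftOfRightInverse_comp_apply _ _ _ _ m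
    have hinjQ : Function.Injective (fun q => ((eQ q : Bˣ) : B)) := by
      intro q q' h
      obtain ⟨m, rfl⟩ := hπ q
      obtain ⟨n, rfl⟩ := hπ q'
      have h1 : χB.toHomUnits m = χB.toHomUnits n := by rw [← heQ, ← heQ]; exact Units.ext h
      have h2 : (n⁻¹ * m).toAdd ∈ H := by
        show χB (n⁻¹ * m) = 1
        have h3 : χB.toHomUnits (n⁻¹ * m) = 1 := by rw [map_mul, map_inv, h1, inv_mul_cancel]
        exact congrArg Units.val h3
      have h4 : π (n⁻¹ * m) = 1 := (QuotientAddGroup.eq_zero_iff _).2 h2
      rw [map_mul, map_inv, inv_mul_eq_one] at h4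
      exact h4.symm
    have hli : LinearIndependent K fun q => ((eQ q : Bˣ) : B) := by
      have h1 := linearIndepOn_groupLike Δ (Set.range fun q => ((eQ q : Bˣ) : B)) (by
        rintro _ ⟨q, rfl⟩
        obtain ⟨m, rfl⟩ := hπ q
        simp only [heQ]
        exact hΔ m) (by
        rintro ⟨q, hq0⟩
        haveI : Nontrivial B := by
          refine not_subsingleton_iff_nontrivial.1 fun hsub => ?_
          have htop : IK = ⊤ := eq_top_iff.2 fun z _ => (hq z).1 (Subsingleton.elim _ _)
          have hone := (hgen K (1 : Multiplicative M →* K)).1 (by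
            show lift (tp (1 : Multiplicative M →* K)) _ ≫ a.act = _
            have h1 : tp (k := k) (1 : Multiplicative M →* K) = toUnit _ ≫ η[(Red.DS (Spec (CommRingCat.of k)) M)] := by
              have h2 : tp (k := k) (1 : Multiplicative M →* K) * tp (1 : Multiplicative M →* K) = tp 1 := by
                rw [← tp_mul, _root_.one_mul]
              rw [← Hom.one_def]
              refine RedPts.d_ext fun m => ?_
              have h3 : ∀ (g : sK (k := k) K ⟶ (Red.DS (Spec (CommRingCat.of k)) M)), g * g = g → RedPts.dFn g m = 1 := fun g hg => by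
                have := (RedPts.d_mul g g m).symm.trans (congrArg (RedPts.dFn · m) hg)
                exact (RedPts.d_isUnit g m).mul_left_cancel (this.trans (_root_.mul_one _).symm)
              rw [h3 _ h2, h3 _ (_root_.one_mul _)]
            rw [h1, show lift (toUnit (sK (k := k) K) ≫ η[(Red.DS (Spec (CommRingCat.of k)) M)]) (sp (((Algebra.ofId K K).restrictScalars k).comp (IsScalarTower.toAlgHom k A K)) ≫ w) =
              lift (toUnit _) (sp (((Algebra.ofId K K).restrictScalars k).comp (IsScalarTower.toAlgHom k A K)) ≫ w) ≫ (η[(Red.DS (Spec (CommRingCat.of k)) M)] ▷ X) by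
                rw [lift_whiskerRight], Category.assoc, a.one_act, lift_leftUnitor_hom]) 1 (htop ▸ Submodule.mem_top)
          rw [map_one] at hone
          exact one_ne_zero hone
        exact (eQ q).ne_zero hq0)
      exact (linearIndepOn_id_range_iff hinjQ).1 h1
    -- the kernel of the map to the quotient contains the stabiliser ideal
    let ρ := MonoidAlgebra.lift K (MonoidAlgebra K Q) (Multiplicative M) ((MonoidAlgebra.of K Q).comp π)
    let Φ : MonoidAlgebra K Q →ₐ[K] B := MonoidAlgebra.lift K B Q ((Units.coeHom B).comp eQ)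
    have hΦρ : ∀ z, Φ (ρ z) = q₀ z := by
      intro z
      rw [← hχB]
      induction z using MonoidAlgebra.induction_linear with
      | zero => simp
      | add z z' hz hz' => simp only [map_add, hz, hz']
      | single m c => simp [ρ, Φ, heQ]
    have hΦ : Function.Injective Φ := by
      rw [injective_iff_map_eq_zero]
      intro z hz
      have hz' : Finsupp.linearCombination K (fun q => ((eQ q : Bˣ) : B)) z.coeff = 0 := by
        rw [← hz, MonoidAlgebra.lift_apply, Finsupp.linearCombination_apply]
        rfl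
      exact MonoidAlgebra.ext ((linearIndependent_iff.1 hli) z.coeff hz')
    -- integrality
    let j' := MonoidAlgebra.mapRingHom Q (algebraMap A K)
    have hj' : Function.Injective j' := fun z z' h => MonoidAlgebra.ext (Finsupp.ext fun m =>
      IsFractionRing.injective A K (by
        have := congr(($h).coeff m)
        simpa [j'] using this))
    let u₀ := (MonoidAlgebra.of A Q).comp π
    have hI0 : ∀ z ∈ I, pairHom (MonoidAlgebra.singleOneAlgHom (R := k) (A := A) (M := Q)) u₀ z = 0 := by
      intro z hz
      apply hj'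
      have : ∀ z, j' (pairHom (MonoidAlgebra.singleOneAlgHom (R := k) (A := A) (M := Q)) u₀ z) = ρ (j z) := by
        intro z
        induction z using MonoidAlgebra.induction_linear with
        | zero => simp
        | add z z' hz hz' => simp only [map_add, hz, hz']
        | single m c => simp [pairHom_single, ρ, j, j', u₀, MonoidAlgebra.singleOneAlgHom, Algebra.algebraMap_eq_smul_one]
      rw [this, map_zero]
      exact hΦ (by rw [hΦρ, map_zero, hq]; exact Ideal.mem_map_of_mem j hz)
    rw [hI]
    intro z hz
    have hcomp : ∀ z, pairHom α ((σ.toRingHom.toMonoidHom.comp (MonoidAlgebra.of k Q)).comp π) z =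
        pairHom (A := A) α (σ.toRingHom.toMonoidHom.comp (MonoidAlgebra.of k Q))
          (pairHom (MonoidAlgebra.singleOneAlgHom (R := k) (A := A) (M := Q)) u₀ z) := by
      intro z
      induction z using MonoidAlgebra.induction_linear with
      | zero => simp only [map_zero]
      | add z z' hz hz' => simp only [map_add, hz, hz']
      | single m c =>
        rw [pairHom_single, pairHom_single, map_mul]
        simp [u₀, MonoidAlgebra.singleOneAlgHom, pairHom, MonoidAlgebra.liftNC_single]
        rfl
    show pairHom α _ z = 0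
    rw [hcomp, hI0 z hz, map_zero]
  · -- spreading out
    have hjalg : ∀ (f : A) (z : MonoidAlgebra A (Multiplicative M)),
        j (algebraMap A (MonoidAlgebra A (Multiplicative M)) f * z) = algebraMap A K f • j z := fun f z => by
      rw [map_mul, Algebra.smul_def]
      congr 1
      simp [j]
    have hclear : ∀ z ∈ IK, ∃ f : A, f ≠ 0 ∧ ∃ y ∈ I, j y = algebraMap A K f • z := by
      intro z hz
      induction hz using Submodule.span_induction with
      | mem z hz => obtain ⟨y, hy, rfl⟩ := hz; exact ⟨1, one_ne_zero, y, hy, by rw [map_one, one_smul]⟩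
      | zero => exact ⟨1, one_ne_zero, 0, I.zero_mem, by rw [map_zero, smul_zero]⟩
      | add z z' _ _ hz hz' =>
        obtain ⟨f, hf, y, hy, hfy⟩ := hz
        obtain ⟨f', hf', y', hy', hfy'⟩ := hz'
        refine ⟨f * f', mul_ne_zero hf hf', algebraMap A _ f' * y + algebraMap A _ f * y',
          I.add_mem (I.mul_mem_left _ hy) (I.mul_mem_left _ hy'), ?_⟩
        rw [map_add, hjalg, hjalg, hfy, hfy', smul_add, map_mul, smul_smul, smul_smul,
          mul_comm (algebraMap A K f') (algebraMap A K f)]
      | smul c z _ hz =>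
        obtain ⟨f, hf, y, hy, hfy⟩ := hz
        obtain ⟨g, hg, c', hc'⟩ : ∃ g : A, g ≠ 0 ∧ ∃ c', j c' = algebraMap A K g • c := by
          induction c using MonoidAlgebra.induction_linear with
          | zero => exact ⟨1, one_ne_zero, 0, by rw [map_zero, smul_zero]⟩
          | add c c' hc hc' =>
            obtain ⟨g, hg, d, hd⟩ := hc
            obtain ⟨g', hg', d', hd'⟩ := hc'
            refine ⟨g * g', mul_ne_zero hg hg', algebraMap A _ g' * d + algebraMap A _ g * d', ?_⟩
            rw [map_add, hjalg, hjalg, hd, hd', smul_add, map_mul, smul_smul, smul_smul,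
              mul_comm (algebraMap A K g') (algebraMap A K g)]
          | single m c =>
            obtain ⟨b, d, hd, rfl⟩ := IsFractionRing.div_surjective A c
            refine ⟨d, nonZeroDivisors.ne_zero hd, MonoidAlgebra.single m b, ?_⟩
            have hdK : algebraMap A K d ≠ 0 := fun h =>
              nonZeroDivisors.ne_zero hd (IsFractionRing.injective A K (h.trans (map_zero _).symm))
            simp [j, Algebra.smul_def, mul_div_cancel₀ _ hdK]
        refine ⟨g * f, mul_ne_zero hg hf, c' * y, I.mul_mem_left _ hy, ?_⟩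
        rw [map_mul, hc', hfy, map_mul, smul_eq_mul, smul_mul_smul_comm]
    have hmem : MonoidAlgebra.single (Multiplicative.ofAdd m) (1 : K) - 1 ∈ IK := by
      rw [← hq, map_sub, map_one, sub_eq_zero]
      exact hm
    obtain ⟨f, hf, y, hy, hfy⟩ := hclear _ hmem
    refine ⟨f, hf, ?_⟩
    suffices y = MonoidAlgebra.single (Multiplicative.ofAdd m) f - MonoidAlgebra.single 1 f from this ▸ hy
    apply hj
    rw [hfy, map_sub, smul_sub, MonoidAlgebra.one_def]
    simp [j, Algebra.smul_def]

end Closed

end Groth.Agent.TorusStab
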